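import Mathlib
import Groth.Prelude.Def_CInt

/-!
Base change of a morphism over a base to field points, and independence of the field.
-/

set_option autoImplicit false
set_option linter.style.haveILetI false

universe u

open AlgebraicGeometry CategoryTheory CategoryTheory.Limits

namespace Groth.Agent.FibIso

variable {X Y S : Scheme.{u}}

/-- The base change of `f` along `t`. -/
noncomputable def bc (f : X ⟶ Y) (h : Y ⟶ S) {T : Scheme.{u}} (t : T ⟶ S) :
    pullback (f ≫ h) t ⟶ pullback h t :=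
  pullback.map (f ≫ h) t h t f (𝟙 _) (𝟙 _) (by simp) (by simp)

@[reassoc]
theorem bc_fst (f : X ⟶ Y) (h : Y ⟶ S) {T : Scheme.{u}} (t : T ⟶ S) :
    bc f h t ≫ pullback.fst h t = pullback.fst (f ≫ h) t ≫ f := pullback.lift_fst _ _ _

@[reassoc]
theorem bc_snd (f : X ⟶ Y) (h : Y ⟶ S) {T : Scheme.{u}} (t : T ⟶ S) :
    bc f h t ≫ pullback.snd h t = pullback.snd (f ≫ h) t :=
  (pullback.lift_snd _ _ _).trans (Category.comp_id _)

theorem isPullback_bc (f : X ⟶ Y) (h : Y ⟶ S) {T : Scheme.{u}} (t : T ⟶ S) :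
    IsPullback (pullback.fst (f ≫ h) t) (bc f h t) f (pullback.fst h t) := by
  refine IsPullback.of_bot ?_ (bc_fst f h t).symm (IsPullback.of_hasPullback h t)
  rw [bc_snd]
  exact IsPullback.of_hasPullback (f ≫ h) t

theorem fiberMap_eq (f : X ⟶ Y) (h : Y ⟶ S) (s : S) :
    CInt.fiberMap f h s = bc f h (S.fromSpecResidueField s) := rfl

/-- The comparison of the two base changes. -/
noncomputable def res (h : Y ⟶ S) {T T' : Scheme.{u}} (τ : T' ⟶ T) (t : T ⟶ S) :
    pullback h (τ ≫ t) ⟶ pullback h t :=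
  pullback.map h (τ ≫ t) h t (𝟙 _) τ (𝟙 _) (by simp) (by simp)

theorem isPullback_res (h : Y ⟶ S) {T T' : Scheme.{u}} (τ : T' ⟶ T) (t : T ⟶ S) :
    IsPullback (res h τ t) (pullback.snd h (τ ≫ t)) (pullback.snd h t) τ := by
  refine IsPullback.of_right ?_ (pullback.lift_snd _ _ _) (IsPullback.of_hasPullback h t)
  rw [res, pullback.lift_fst, Category.comp_id]
  exact IsPullback.of_hasPullback h (τ ≫ t)

theorem res_fst (h : Y ⟶ S) {T T' : Scheme.{u}} (τ : T' ⟶ T) (t : T ⟶ S) :
    res h τ t ≫ pullback.fst h t = pullback.fst h (τ ≫ t) :=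
  (pullback.lift_fst _ _ _).trans (Category.comp_id _)

theorem res_snd (h : Y ⟶ S) {T T' : Scheme.{u}} (τ : T' ⟶ T) (t : T ⟶ S) :
    res h τ t ≫ pullback.snd h t = pullback.snd h (τ ≫ t) ≫ τ := pullback.lift_snd _ _ _

theorem isPullback_bc_res (f : X ⟶ Y) (h : Y ⟶ S) {T T' : Scheme.{u}} (τ : T' ⟶ T) (t : T ⟶ S) :
    IsPullback (res (f ≫ h) τ t) (bc f h (τ ≫ t)) (bc f h t) (res h τ t) := by
  refine IsPullback.of_right ?_ ?_ (isPullback_bc f h t)
  · rw [res, res, pullback.lift_fst, pullback.lift_fst, Category.comp_id, Category.comp_id]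
    exact isPullback_bc f h (τ ≫ t)
  · apply pullback.hom_ext
    · rw [Category.assoc, Category.assoc, bc_fst, res_fst, bc_fst, ← Category.assoc, res_fst]
    · rw [Category.assoc, Category.assoc, bc_snd, res_snd, res_snd, bc_snd_assoc]

variable (f : X ⟶ Y) (h : Y ⟶ S)

section

variable {T T' : Scheme.{u}} (τ : T' ⟶ T) (t : T ⟶ S)

theorem isIso_bc_of_isIso [IsIso (bc f h t)] : IsIso (bc f h (τ ≫ t)) :=
  (isPullback_bc_res f h τ t).isIso_snd_of_isIso

theorem isIso_bc_comp_iff [Surjective τ] [Flat τ] [QuasiCompact τ] :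
    IsIso (bc f h (τ ≫ t)) ↔ IsIso (bc f h t) := by
  refine ⟨fun hi => ?_, fun _ => isIso_bc_of_isIso f h τ t⟩
  have hr := (isPullback_res h τ t).flip
  have h1 : (@Surjective ⊓ @Flat ⊓ @QuasiCompact : MorphismProperty Scheme.{u}) (res h τ t) :=
    ⟨⟨MorphismProperty.of_isPullback (P := @Surjective) hr inferInstance,
      MorphismProperty.of_isPullback (P := @Flat) hr inferInstance⟩,
      MorphismProperty.of_isPullback (P := @QuasiCompact) hr inferInstance⟩
  exact (MorphismProperty.of_isPullback_of_descendsAlong (P := MorphismProperty.isomorphisms Scheme.{u})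
    (Q := @Surjective ⊓ @Flat ⊓ @QuasiCompact) (isPullback_bc_res f h τ t).flip h1 hi :)

theorem smooth_snd_comp_iff [Surjective τ] [Flat τ] [QuasiCompact τ] :
    Smooth (pullback.snd h (τ ≫ t)) ↔ Smooth (pullback.snd h t) :=
  ⟨fun hi => MorphismProperty.of_isPullback_of_descendsAlong (P := @Smooth)
    (Q := @Surjective ⊓ @Flat ⊓ @QuasiCompact) (isPullback_res h τ t).flip
      ⟨⟨inferInstance, inferInstance⟩, inferInstance⟩ hi,
    fun hi => MorphismProperty.of_isPullback (P := @Smooth) (isPullback_res h τ t) hi⟩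

theorem irreducibleSpace_of_comp [Surjective τ] (hi : IrreducibleSpace ↥(pullback h (τ ≫ t))) :
    IrreducibleSpace ↥(pullback h t) := by
  haveI : Surjective (res h τ t) :=
    MorphismProperty.of_isPullback (P := @Surjective) (isPullback_res h τ t).flip inferInstance
  haveI := hi
  exact Function.Surjective.irreducibleSpace (res h τ t).continuous (res h τ t).surjective

end

theorem isField_residueField {S : Scheme.{u}} (s : S) : IsField (S.residueField s) := Field.toIsField _

theorem nonempty_spec {K : CommRingCat.{u}} (hK : IsField K) : Nonempty ↥(Spec K) :=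
  haveI := hK.nontrivial
  inferInstanceAs (Nonempty (PrimeSpectrum K))

/-- A morphism between spectra of fields is faithfully flat and quasi-compact. -/
theorem field_hom {K L : CommRingCat.{u}} (hK : IsField K) (hL : IsField L) (τ : Spec L ⟶ Spec K) :
    Surjective τ ∧ Flat τ ∧ QuasiCompact τ := by
  haveI : Subsingleton ↥(Spec K) := by
    letI := hK.toField
    exact inferInstanceAs (Subsingleton (PrimeSpectrum K))
  refine ⟨⟨fun x => ⟨(nonempty_spec hL).some, Subsingleton.elim _ _⟩⟩, ?_, inferInstance⟩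
  obtain ⟨φ, rfl⟩ := Spec.map_surjective τ
  rw [HasRingHomProperty.Spec_iff (P := @Flat)]
  letI := φ.hom.toAlgebra
  rw [← φ.hom.algebraMap_toAlgebra, RingHom.flat_algebraMap_iff]
  letI := hK.toField
  haveI : Module.Free K L := Module.Free.of_divisionRing K L
  infer_instance

theorem fromSpecResidueField_comp_apply {S S' : Scheme.{u}} (s : S) (g : S ⟶ S') (x : ↥(Spec (S.residueField s))) :
    (S.fromSpecResidueField s ≫ g) x = g s := by
  rw [Scheme.Hom.comp_apply, Scheme.fromSpecResidueField_apply]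

/-- Two field points over the same point have a common extension. -/
theorem exists_common {K K' : CommRingCat.{u}} (σ : Spec K ⟶ S) (σ' : Spec K' ⟶ S)
    {x : ↥(Spec K)} {x' : ↥(Spec K')} (hσ : σ x = σ' x') :
    ∃ (L : CommRingCat.{u}) (_ : IsField L) (τ : Spec L ⟶ Spec K) (τ' : Spec L ⟶ Spec K'), τ ≫ σ = τ' ≫ σ' := by
  obtain ⟨w, -, -⟩ := Scheme.Pullback.exists_preimage_pullback _ _ hσ
  exact ⟨(pullback σ σ').residueField w, isField_residueField w, (pullback σ σ').fromSpecResidueField w ≫ pullback.fst σ σ',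
    (pullback σ σ').fromSpecResidueField w ≫ pullback.snd σ σ', by
      rw [Category.assoc, Category.assoc, pullback.condition]⟩

/-- Being an isomorphism at a field point depends only on the point. -/
theorem isIso_bc_iff {K K' : CommRingCat.{u}} (hK : IsField K) (hK' : IsField K') (σ : Spec K ⟶ S) (σ' : Spec K' ⟶ S)
    {x : ↥(Spec K)} {x' : ↥(Spec K')} (hσ : σ x = σ' x') :
    IsIso (bc f h σ) ↔ IsIso (bc f h σ') := by
  obtain ⟨L, hL, τ, τ', e⟩ := exists_common σ σ' hσ
  obtain ⟨_, _, _⟩ := field_hom hK hL τ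
  obtain ⟨_, _, _⟩ := field_hom hK' hL τ'
  rw [← isIso_bc_comp_iff f h τ σ, e, isIso_bc_comp_iff f h τ' σ']

theorem smooth_snd_iff {K K' : CommRingCat.{u}} (hK : IsField K) (hK' : IsField K') (σ : Spec K ⟶ S) (σ' : Spec K' ⟶ S)
    {x : ↥(Spec K)} {x' : ↥(Spec K')} (hσ : σ x = σ' x') :
    Smooth (pullback.snd h σ) ↔ Smooth (pullback.snd h σ') := by
  obtain ⟨L, hL, τ, τ', e⟩ := exists_common σ σ' hσ
  obtain ⟨_, _, _⟩ := field_hom hK hL τ
  obtain ⟨_, _, _⟩ := field_hom hK' hL τ'
  rw [← smooth_snd_comp_iff h τ σ, e, smooth_snd_comp_iff h τ' σ']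

/-- Change of base: `(base change along q) at t` is `at t ≫ q`. -/
theorem isPullback_bc_base {S' : Scheme.{u}} {q : S' ⟶ S} {X' Y' : Scheme.{u}} {f' : X' ⟶ Y'} {h' : Y' ⟶ S'}
    {qX : X' ⟶ X} {qY : Y' ⟶ Y} (hY : IsPullback qY h' h q) (hX : IsPullback qX (f' ≫ h') (f ≫ h) q)
    (w : qX ≫ f = f' ≫ qY) {T : Scheme.{u}} (t : T ⟶ S') :
    ∃ (a : pullback (f' ≫ h') t ≅ pullback (f ≫ h) (t ≫ q)) (b : pullback h' t ≅ pullback h (t ≫ q)),
      bc f' h' t = a.hom ≫ bc f h (t ≫ q) ≫ b.inv ∧
        b.hom ≫ pullback.snd h (t ≫ q) = pullback.snd h' t ∧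
        a.hom ≫ pullback.snd (f ≫ h) (t ≫ q) = pullback.snd (f' ≫ h') t := by
  let a := ((IsPullback.of_hasPullback (f' ≫ h') t).paste_horiz hX).isoPullback
  let b := ((IsPullback.of_hasPullback h' t).paste_horiz hY).isoPullback
  refine ⟨a, b, ?_, IsPullback.isoPullback_hom_snd _, IsPullback.isoPullback_hom_snd _⟩
  rw [← Category.assoc, Iso.eq_comp_inv]
  apply pullback.hom_ext
  · rw [Category.assoc, Category.assoc, IsPullback.isoPullback_hom_fst, bc_fst, IsPullback.isoPullback_hom_fst_assoc,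
      bc_fst_assoc, Category.assoc, w]
  · rw [Category.assoc, Category.assoc, IsPullback.isoPullback_hom_snd, bc_snd, bc_snd, IsPullback.isoPullback_hom_snd]

end Groth.Agent.FibIso
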